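import Groth.Agent.Lib.NF45.Decomp
import Mathlib.FieldTheory.Normal.Closure
import Mathlib.RingTheory.IntegralDomain

/-!
# Affine actions on embeddings and cyclic subextensions
-/

set_option autoImplicit false

open NumberField IsDedekindDomain IntermediateField
open scoped Pointwise

namespace Groth.Agent.Lib.NF45

universe u

theorem exists_cyclic_subext (K L Ω : Type u) [Field K] [NumberField K]
    [Field L] [NumberField L] [Algebra K L] [Field Ω] [Algebra K Ω] [IsAlgClosure K Ω]
    (p : ℕ) (hp : p.Prime) (e : (L →ₐ[K] Ω) ≃ ZMod p)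
    (haff : ∀ σ : Ω ≃ₐ[K] Ω, ∃ a b : ZMod p, a ≠ 0 ∧
      ∀ φ : L →ₐ[K] Ω, e (σ.toAlgHom.comp φ) = a * e φ + b)
    (hnab : IsGalois K L → ∃ σ τ : L ≃ₐ[K] L, σ * τ ≠ τ * σ) :
    ∃ E : IntermediateField K Ω, E ≤ IntermediateField.normalClosure K L Ω ∧
      FiniteDimensional K E ∧ IsGalois K E ∧ IsCyclic (E ≃ₐ[K] E) ∧ 1 < Module.finrank K E ∧
      ∀ w : IsDedekindDomain.HeightOneSpectrum (NumberField.RingOfIntegers K),
        (∀ P : Ideal (NumberField.RingOfIntegers L), P.IsPrime → P.LiesOver w.asIdeal →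
          P.ramificationIdx (NumberField.RingOfIntegers K) = 1) →
        Nonempty (E →ₐ[K] w.adicCompletion K) ∨ Nonempty (L →ₐ[K] w.adicCompletion K) := by
  classical
  haveI : Fact p.Prime := ⟨hp⟩
  haveI : IsAlgClosed Ω := IsAlgClosure.isAlgClosed K
  haveI : Algebra.IsAlgebraic K Ω := IsAlgClosure.isAlgebraic
  let N : IntermediateField K Ω := IntermediateField.normalClosure K L Ω
  haveI : Normal K Ω := IsAlgClosure.normal K Ω
  haveI : FiniteDimensional K N := normalClosure.is_finiteDimensional K L Ω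
  haveI : Normal K N := normalClosure.normal K L Ω
  haveI : IsGalois K N := ⟨⟩
  haveI : NumberField N := NumberField.of_module_finite K N
  let toN : (L →ₐ[K] Ω) → (L →ₐ[K] N) := fun φ =>
    φ.codRestrict N.toSubalgebra fun x => AlgHom.fieldRange_le_normalClosure φ ⟨x, rfl⟩
  let act : (N ≃ₐ[K] N) → (L →ₐ[K] Ω) → (L →ₐ[K] Ω) := fun g φ =>
    N.val.comp (g.toAlgHom.comp (toN φ))
  have hact : ∀ g h φ, act (g * h) φ = act g (act h φ) := fun g h φ => rfl
  have hact1 : ∀ φ, act 1 φ = φ := fun φ => rfl
  have hlift : ∀ g : N ≃ₐ[K] N, ∃ σ : Ω ≃ₐ[K] Ω, ∀ φ, act g φ = σ.toAlgHom.comp φ := by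
    intro g
    exact ⟨g.liftNormal Ω, fun φ => AlgHom.ext fun x => (g.liftNormal_commutes Ω (toN φ x)).symm⟩
  have haffN : ∀ g : N ≃ₐ[K] N, ∃ a b : ZMod p, a ≠ 0 ∧ ∀ φ, e (act g φ) = a * e φ + b := by
    intro g
    obtain ⟨σ, hσ⟩ := hlift g
    obtain ⟨a, b, ha, h⟩ := haff σ
    exact ⟨a, b, ha, fun φ => by rw [hσ]; exact h φ⟩
  let af : (N ≃ₐ[K] N) → ZMod p := fun g => e (act g (e.symm 1)) - e (act g (e.symm 0))
  let bf : (N ≃ₐ[K] N) → ZMod p := fun g => e (act g (e.symm 0))
  have hform : ∀ g φ, e (act g φ) = af g * e φ + bf g := by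
    intro g φ
    obtain ⟨a, b, -, h⟩ := haffN g
    simp only [af, bf, h, e.apply_symm_apply]
    ring
  have hmul : ∀ g h, af (g * h) = af g * af h := by
    intro g h
    simp only [af, hact]
    rw [hform g (act h _), hform g (act h _)]
    ring
  have hone : af 1 = 1 := by simp [af, hact1]
  let A : (N ≃ₐ[K] N) →* (ZMod p)ˣ :=
    MonoidHom.toHomUnits { toFun := af, map_one' := hone, map_mul' := hmul }
  have hA : ∀ g, (A g : ZMod p) = af g := fun g => rfl
  -- faithfulness
  have hfaith : ∀ g, (∀ φ, act g φ = φ) → g = 1 := by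
    intro g hg
    have hle : N ≤ IntermediateField.lift (fixedField (Subgroup.zpowers g)) := by
      refine normalClosure_le_iff.2 fun φ => ?_
      rintro _ ⟨x, rfl⟩
      refine ⟨toN φ x, ?_, rfl⟩
      rintro ⟨h, hh⟩
      have : g ∈ MulAction.stabilizer (N ≃ₐ[K] N) (toN φ x) := by
        rw [MulAction.mem_stabilizer_iff]
        exact Subtype.ext (AlgHom.congr_fun (hg φ) x)
      exact MulAction.mem_stabilizer_iff.1 ((Subgroup.zpowers_le.2 this) hh)
    refine AlgEquiv.ext fun y => ?_
    obtain ⟨z, hz, hzy⟩ := hle y.2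
    have : z = y := Subtype.ext hzy
    subst this
    exact hz ⟨g, Subgroup.mem_zpowers g⟩
  have hnontriv : A.ker ≠ ⊤ := by
    intro htop
    have ha1 : ∀ g, af g = 1 := by
      intro g
      have : g ∈ A.ker := htop ▸ Subgroup.mem_top g
      rw [MonoidHom.mem_ker] at this
      rw [← hA, this, Units.val_one]
    have hbinj : Function.Injective bf := by
      intro g h hgh
      have : h⁻¹ * g = 1 := hfaith _ fun φ => e.injective (by
        have hb : bf (h⁻¹ * g) = bf (h⁻¹ * h) := by
          simp only [bf, hact]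
          rw [hform h⁻¹, hform h⁻¹]
          exact congrArg (fun t => af h⁻¹ * t + bf h⁻¹) hgh
        rw [hform, ha1, one_mul, hb, inv_mul_cancel]
        simp [bf, hact1])
      exact (inv_mul_eq_one.1 this).symm
    have hcomm : ∀ g h : N ≃ₐ[K] N, g * h = h * g := fun g h => hbinj (by
      simp only [bf, hact]
      rw [hform g (act h _), hform h (act g _), ha1, ha1, one_mul, one_mul]
      exact add_comm _ _)
    have hcardG : Nat.card (N ≃ₐ[K] N) ≤ p := by
      have := Nat.card_le_card_of_injective bf hbinj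
      rwa [Nat.card_zmod] at this
    have hdimL : Module.finrank K L = p := by
      haveI : FiniteDimensional K L := Module.Finite.of_restrictScalars_finite ℚ K L
      rw [← AlgHom.card K L Ω, ← Nat.card_eq_fintype_card, Nat.card_congr e, Nat.card_zmod]
    let ψ := toN (e.symm 0)
    haveI : FiniteDimensional K L := Module.Finite.of_restrictScalars_finite ℚ K L
    have hdim : Module.finrank K N = Module.finrank K L := by
      refine le_antisymm ?_ (LinearMap.finrank_le_finrank_of_injective (f := ψ.toLinearMap)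
        ψ.toRingHom.injective)
      rw [hdimL, ← IsGalois.card_aut_eq_finrank]
      exact hcardG
    have hbij : Function.Bijective ψ := ⟨ψ.toRingHom.injective,
      (LinearMap.injective_iff_surjective_of_finrank_eq_finrank hdim.symm (f := ψ.toLinearMap)).1
        ψ.toRingHom.injective⟩
    let eq := AlgEquiv.ofBijective ψ hbij
    obtain ⟨σ, τ, hne⟩ := hnab (IsGalois.of_algEquiv eq.symm)
    apply hne
    apply eq.autCongr.injective
    rw [map_mul, map_mul]
    exact hcomm _ _
  let F : IntermediateField K N := fixedField A.ker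
  let eF : IntermediateField.lift F ≃ₐ[K] F := (IntermediateField.liftAlgEquiv F).symm
  haveI : IsGalois K F := IsGalois.of_fixedField_normal_subgroup A.ker
  haveI : FiniteDimensional K F := inferInstance
  have hcyc : IsCyclic (F ≃ₐ[K] F) := by
    haveI : IsCyclic ((N ≃ₐ[K] N) ⧸ A.ker) :=
      isCyclic_of_injective (QuotientGroup.kerLift A) (QuotientGroup.kerLift_injective A)
    exact isCyclic_of_surjective (IsGalois.normalAutEquivQuotient A.ker).toMonoidHom
      (IsGalois.normalAutEquivQuotient A.ker).surjective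
  have hrank : 1 < Module.finrank K F := by
    rw [← IsGalois.card_aut_eq_finrank, ← Nat.card_congr
      (IsGalois.normalAutEquivQuotient A.ker).toEquiv]
    refine lt_of_le_of_ne Nat.card_pos (Ne.symm fun h => hnontriv ?_)
    rw [← Subgroup.index_eq_one]
    exact h
  refine ⟨IntermediateField.lift F, IntermediateField.lift_le F,
    LinearEquiv.finiteDimensional eF.symm.toLinearEquiv, IsGalois.of_algEquiv eF.symm,
    isCyclic_of_surjective eF.symm.autCongr.toMonoidHom eF.symm.autCongr.surjective,
    by rw [eF.toLinearEquiv.finrank_eq]; exact hrank, fun w hw => ?_⟩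
  haveI := w.isPrime
  obtain ⟨P, hPmax, hP⟩ : ∃ P : Ideal (𝓞 N), P.IsMaximal ∧ P.LiesOver w.asIdeal := by
    haveI := w.isMaximal
    obtain ⟨P, hP1, hP2⟩ := Ideal.exists_maximal_ideal_liesOver_of_isIntegral (S := 𝓞 N) w.asIdeal
    exact ⟨P, hP1, hP2⟩
  have hI : Ideal.inertia (N ≃ₐ[K] N) P = ⊥ := by
    rw [eq_bot_iff]
    intro g hg
    refine Subgroup.mem_bot.2 (hfaith g fun φ => AlgHom.ext fun x => ?_)
    exact congrArg Subtype.val (inertia_fixes w P (toN φ) hw g hg x)
  obtain ⟨g, -, hgen⟩ := exists_generator_stabilizer w P hI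
  by_cases hag : af g = 1
  · left
    have hk : g ∈ A.ker := by
      rw [MonoidHom.mem_ker]
      exact Units.ext (by rw [hA, hag, Units.val_one])
    obtain ⟨f⟩ := nonempty_algHom_adicCompletion w P F fun h hh => by
      rw [IntermediateField.fixingSubgroup_fixedField]
      exact Subgroup.zpowers_le.2 hk (hgen h hh)
    exact ⟨f.comp eF.toAlgHom⟩
  · right
    let φ := e.symm (bf g / (1 - af g))
    have hfix : act g φ = φ := e.injective (by
      rw [hform]
      simp only [φ, e.apply_symm_apply]
      have : (1 : ZMod p) - af g ≠ 0 := sub_ne_zero.2 (Ne.symm hag)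
      field_simp
      ring)
    obtain ⟨f⟩ := nonempty_algHom_adicCompletion w P (toN φ).fieldRange fun h hh => by
      refine Subgroup.zpowers_le.2 ?_ (hgen h hh)
      rw [IntermediateField.mem_fixingSubgroup_iff]
      rintro _ ⟨x, rfl⟩
      exact Subtype.ext (AlgHom.congr_fun hfix x)
    exact ⟨f.comp (toN φ).rangeRestrict⟩

end Groth.Agent.Lib.NF45
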