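import Groth.Agent.Lib.NF45.HenselRoot
import Mathlib.NumberTheory.NumberField.Completion.FinitePlace
import Mathlib.NumberTheory.RamificationInertia.Galois
import Mathlib.FieldTheory.Finite.Basic

/-!
# Decomposition groups: embedding of the decomposition field, cyclicity
-/

set_option autoImplicit false

open NumberField IsDedekindDomain Polynomial
open scoped Pointwise

namespace Groth.Agent.Lib.NF45

universe u

variable {K N : Type u} [Field K] [NumberField K] [Field N] [NumberField N] [Algebra K N]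

theorem coe_smul_int (g : N ≃ₐ[K] N) (x : 𝓞 N) : ((g • x : 𝓞 N) : N) = g (x : N) := rfl

variable [IsGalois K N] (w : HeightOneSpectrum (𝓞 K)) (P : Ideal (𝓞 N)) [P.IsMaximal]
  [P.LiesOver w.asIdeal]

/-- An element which is `1` at `P`, `0` at the other conjugates and fixed by the decomposition
group. -/
theorem exists_theta : ∃ θ : 𝓞 N, θ - 1 ∈ P ∧
    (∀ g : N ≃ₐ[K] N, g • P ≠ P → θ ∈ g • P) ∧
      ∀ d : N ≃ₐ[K] N, d • P = P → d • θ = θ := by
  classical
  let S := (Finset.univ.image fun g : N ≃ₐ[K] N => g • P).erase P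
  have hcop : P ⊔ ∏ Q ∈ S, Q = ⊤ := by
    refine Ideal.sup_prod_eq_top fun Q hQ => ?_
    obtain ⟨hne, hQ⟩ := Finset.mem_erase.1 hQ
    obtain ⟨g, -, rfl⟩ := Finset.mem_image.1 hQ
    haveI : (g • P).IsMaximal := by
      rw [Ideal.pointwise_smul_eq_comap]
      exact Ideal.comap_isMaximal_of_equiv _
    exact Ideal.IsMaximal.coprime_of_ne inferInstance inferInstance (Ne.symm hne)
  obtain ⟨x, hx, y, hy, hxy⟩ := Submodule.mem_sup.1 ((Ideal.eq_top_iff_one _).1 hcop)
  let D := MulAction.stabilizer (N ≃ₐ[K] N) P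
  refine ⟨∏ d : D, (d : N ≃ₐ[K] N) • y, ?_, fun g hg => ?_, fun d hd => ?_⟩
  · rw [← Ideal.Quotient.eq, map_prod, map_one]
    refine Finset.prod_eq_one fun d _ => ?_
    rw [← map_one (Ideal.Quotient.mk P), Ideal.Quotient.eq]
    have h1 : (d : N ≃ₐ[K] N) • (y - 1) ∈ (d : N ≃ₐ[K] N) • P := by
      refine Ideal.smul_mem_pointwise_smul _ _ _ ?_
      have : y - 1 = -x := by rw [← hxy]; ring
      rw [this]
      exact neg_mem hx
    rwa [MulAction.mem_stabilizer_iff.1 d.2, smul_sub, smul_one] at h1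
  · refine Ideal.mem_of_dvd _ (Finset.dvd_prod_of_mem _ (Finset.mem_univ (1 : D))) ?_
    rw [Subgroup.coe_one, one_smul]
    have hle : ∏ Q ∈ S, Q ≤ g • P := Ideal.le_of_dvd (Finset.dvd_prod_of_mem _
      (Finset.mem_erase.2 ⟨hg, Finset.mem_image.2 ⟨g, Finset.mem_univ _, rfl⟩⟩))
    exact hle hy
  · rw [Finset.smul_prod']
    refine Fintype.prod_equiv (Equiv.mulLeft (⟨d, hd⟩ : D)) _ _ fun e => ?_
    rw [Equiv.coe_mulLeft, Subgroup.coe_mul, mul_smul]

/-- The fixed field of the decomposition group embeds into the completion. -/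
theorem nonempty_algHom_adicCompletion (F : IntermediateField K N)
    (hF : ∀ g : N ≃ₐ[K] N, g • P = P → g ∈ F.fixingSubgroup) :
    Nonempty (F →ₐ[K] w.adicCompletion K) := by
  classical
  obtain ⟨θ, h1, h0, hfix⟩ := exists_theta (K := K) P
  have hP1 : (1 : 𝓞 N) ∉ P := fun h => Ideal.IsMaximal.ne_top ‹_› ((Ideal.eq_top_iff_one _).2 h)
  have hθP : θ ∉ P := fun h => hP1 (by simpa using P.sub_mem h h1)
  have hstab : ∀ g : N ≃ₐ[K] N, g • θ = θ → g • P = P := by
    intro g hg
    by_contra hne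
    have hne' : g⁻¹ • P ≠ P := by
      intro h
      exact hne (by conv_lhs => rw [← h, smul_inv_smul])
    have := Ideal.smul_mem_pointwise_smul g _ _ (h0 _ hne')
    rw [hg, smul_inv_smul] at this
    exact hθP this
  have hout : ∀ g : N ≃ₐ[K] N, g • P ≠ P → g • θ ∈ P := by
    intro g hne
    have hne' : g⁻¹ • P ≠ P := by
      intro h
      exact hne (by conv_lhs => rw [← h, smul_inv_smul])
    have := Ideal.smul_mem_pointwise_smul g _ _ (h0 _ hne')
    rwa [smul_inv_smul] at this
  -- F is contained in K(θ)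
  have hle : F ≤ IntermediateField.adjoin K {(θ : N)} := by
    rw [← IsGalois.fixedField_fixingSubgroup (IntermediateField.adjoin K {(θ : N)}),
      ← IsGalois.fixedField_fixingSubgroup F]
    refine IntermediateField.fixedField_antitone ?_
    intro g hg
    refine hF g (hstab g (RingOfIntegers.ext ?_))
    exact (IntermediateField.mem_fixingSubgroup_iff _ _).1 hg _
      (IntermediateField.subset_adjoin K _ rfl)
  -- minimal polynomial
  have hint : IsIntegral (𝓞 K) θ := Algebra.IsIntegral.isIntegral θ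
  have hintN : IsIntegral K (θ : N) := Algebra.IsIntegral.isIntegral _
  let f := minpoly (𝓞 K) θ
  have hf : minpoly K (θ : N) = f.map (algebraMap (𝓞 K) K) :=
    minpoly.isIntegrallyClosed_eq_field_fractions K N hint
  let orb : Finset (𝓞 N) := Finset.univ.image fun g : N ≃ₐ[K] N => g • θ
  have hroots : ((minpoly K (θ : N)).map (algebraMap K N)).roots =
      (orb.map ⟨fun r : 𝓞 N => (r : N), RingOfIntegers.coe_injective⟩).val := by
    refine (Multiset.Nodup.ext ?_ (Finset.nodup _)).2 fun r => ?_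
    · exact nodup_roots (Polynomial.Separable.map (Algebra.IsSeparable.isSeparable K (θ : N)))
    · rw [mem_roots_map (minpoly.ne_zero hintN), Finset.mem_val, Finset.mem_map]
      constructor
      · intro h
        obtain ⟨σ, hσ⟩ := minpoly.exists_algEquiv_of_root' (Algebra.IsAlgebraic.isAlgebraic _)
          (by rw [aeval_def]; exact h : aeval r (minpoly K (θ : N)) = 0)
        exact ⟨σ • θ, Finset.mem_image.2 ⟨σ, Finset.mem_univ _, rfl⟩, hσ⟩
      · rintro ⟨_, hg, rfl⟩
        obtain ⟨g, -, rfl⟩ := Finset.mem_image.1 hg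
        show eval₂ (algebraMap K N) (g (θ : N)) (minpoly K (θ : N)) = 0
        rw [← aeval_def, ← AlgEquiv.coe_toAlgHom, aeval_algHom_apply, minpoly.aeval, map_zero]
  have hprod : f.map (algebraMap (𝓞 K) (𝓞 N)) = ∏ r ∈ orb, (X - C r) := by
    apply Polynomial.map_injective (algebraMap (𝓞 N) N) RingOfIntegers.coe_injective
    rw [Polynomial.map_map, ← IsScalarTower.algebraMap_eq, IsScalarTower.algebraMap_eq (𝓞 K) K N,
      ← Polynomial.map_map, ← hf, Polynomial.map_prod]
    rw [(Normal.splits inferInstance (θ : N) :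
      ((minpoly K (θ : N)).map (algebraMap K N)).Splits).eq_prod_roots_of_monic
        ((minpoly.monic hintN).map _), hroots, Finset.map_val, Multiset.map_map,
      ← Finset.prod_eq_multiset_prod]
    refine Finset.prod_congr rfl fun r _ => ?_
    simp
  have hmem : θ ∈ orb := Finset.mem_image.2 ⟨1, Finset.mem_univ _, one_smul _ _⟩
  have hθroot : (f.map (algebraMap (𝓞 K) (𝓞 N))).eval θ = 0 := by
    rw [eval_map, ← aeval_def]
    exact minpoly.aeval _ _
  have hd : (derivative (f.map (algebraMap (𝓞 K) (𝓞 N)))).eval θ ∉ P := by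
    rw [hprod, ← Finset.mul_prod_erase _ _ hmem, derivative_mul, eval_add, eval_mul, eval_mul]
    simp only [derivative_sub, derivative_X, derivative_C, sub_zero, eval_one, one_mul, eval_sub,
      eval_X, eval_C, sub_self, zero_mul, add_zero, eval_prod]
    intro h
    obtain ⟨r, hr, hrP⟩ := (Ideal.IsPrime.prod_mem_iff (hp := inferInstance)).1 h
    obtain ⟨hrne, hr⟩ := Finset.mem_erase.1 hr
    obtain ⟨g, -, rfl⟩ := Finset.mem_image.1 hr
    have := P.add_mem hrP (hout g fun hg => hrne (hfix g hg))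
    rw [sub_add_cancel] at this
    exact hθP this
  have hev : ∀ p : (𝓞 K)[X],
      (p.map (algebraMap (𝓞 K) (𝓞 N))).eval θ ∈ P ↔ p.eval 1 ∈ w.asIdeal := by
    intro p
    have h2 : (p.map (algebraMap (𝓞 K) (𝓞 N))).eval θ -
        (p.map (algebraMap (𝓞 K) (𝓞 N))).eval 1 ∈ P :=
      P.mem_of_dvd (sub_dvd_eval_sub _ _ _) h1
    rw [eval_one_map] at h2
    rw [Ideal.mem_of_liesOver P w.asIdeal]
    constructor
    · intro h
      simpa using P.sub_mem h h2
    · intro h
      simpa using P.add_mem h2 h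
  have hf0 : f.eval 1 ∈ w.asIdeal := (hev f).1 (by rw [hθroot]; exact P.zero_mem)
  have hf1 : (derivative f).eval 1 ∉ w.asIdeal := fun h => hd (by
    rw [derivative_map]; exact (hev _).2 h)
  obtain ⟨x, hx⟩ := exists_root_adicCompletion (K := K) w f 1 hf0 hf1
  rw [← hf] at hx
  refine ⟨((IntermediateField.algHomAdjoinIntegralEquiv K hintN).symm ⟨x, ?_⟩).comp
    (IntermediateField.inclusion hle)⟩
  rw [mem_aroots]
  exact ⟨minpoly.ne_zero hintN, by rw [aeval_def]; exact hx⟩

include w in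
/-- If the inertia group is trivial, the decomposition group is cyclic. -/
theorem exists_generator_stabilizer (hI : Ideal.inertia (N ≃ₐ[K] N) P = ⊥) :
    ∃ g : N ≃ₐ[K] N, g • P = P ∧ ∀ h : N ≃ₐ[K] N, h • P = P → h ∈ Subgroup.zpowers g := by
  haveI : w.asIdeal.IsMaximal := w.isMaximal
  letI := Ideal.Quotient.field P
  letI := Ideal.Quotient.field w.asIdeal
  haveI : Finite (𝓞 N ⧸ P) := Ideal.finiteQuotientOfFreeOfNeBot P
    (Ring.ne_bot_of_isMaximal_of_not_isField ‹_› (RingOfIntegers.not_isField N))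
  let ψ := Ideal.Quotient.stabilizerHom P w.asIdeal (N ≃ₐ[K] N)
  have hinj : Function.Injective ψ := by
    rw [← MonoidHom.ker_eq_bot_iff, eq_bot_iff]
    intro d hd
    have h : (d : N ≃ₐ[K] N) ∈ Ideal.inertia (N ≃ₐ[K] N) P := by
      rw [← Ideal.Quotient.map_ker_stabilizer_subtype P w.asIdeal]
      exact ⟨d, hd, rfl⟩
    rw [hI, Subgroup.mem_bot] at h
    exact Subgroup.mem_bot.2 (Subtype.ext h)
  haveI := isCyclic_of_injective ψ hinj
  obtain ⟨g, hg⟩ := IsCyclic.exists_generator (α := MulAction.stabilizer (N ≃ₐ[K] N) P)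
  refine ⟨g, g.2, fun h hh => ?_⟩
  obtain ⟨n, hn⟩ := hg ⟨h, hh⟩
  refine ⟨n, ?_⟩
  simpa using congrArg Subtype.val hn

omit [P.IsMaximal] in
/-- A prime unramified in an intermediate field has inertia fixing that field. -/
theorem inertia_fixes {L : Type u} [Field L] [NumberField L] [Algebra K L] (φ : L →ₐ[K] N)
    [P.IsPrime]
    (hL : ∀ Q : Ideal (𝓞 L), Q.IsPrime → Q.LiesOver w.asIdeal → Q.ramificationIdx (𝓞 K) = 1)
    (g : N ≃ₐ[K] N) (hg : g ∈ Ideal.inertia (N ≃ₐ[K] N) P) (x : L) : g (φ x) = φ x := by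
  letI := φ.toRingHom.toAlgebra
  haveI : IsScalarTower K L N := IsScalarTower.of_algebraMap_eq fun x => (φ.commutes x).symm
  haveI : IsScalarTower (𝓞 K) (𝓞 L) (𝓞 N) := IsScalarTower.of_algebraMap_eq fun x =>
    RingOfIntegers.ext (IsScalarTower.algebraMap_apply K L N (x : K))
  haveI : IsGalois L N := IsGalois.tower_top_of_isGalois K L N
  let Q := P.under (𝓞 L)
  haveI : Q.IsPrime := Ideal.IsPrime.under (𝓞 L) P
  haveI : P.LiesOver Q := P.over_under
  haveI : Q.LiesOver w.asIdeal := Ideal.LiesOver.tower_bot P Q w.asIdeal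
  haveI : w.asIdeal.IsPrime := w.isPrime
  let r : (N ≃ₐ[L] N) → (N ≃ₐ[K] N) := AlgEquiv.restrictScalars K
  have hr : Function.Injective r := AlgEquiv.restrictScalars_injective K
  let r' : Ideal.inertia (N ≃ₐ[L] N) P → Ideal.inertia (N ≃ₐ[K] N) P :=
    fun h => ⟨r h.1, fun y => h.2 y⟩
  have hr' : Function.Injective r' := fun a b h =>
    Subtype.ext (hr (congrArg Subtype.val h))
  haveI : Finite (𝓞 L ⧸ Q) := by
    refine Ideal.finiteQuotientOfFreeOfNeBot Q fun h => w.ne_bot ?_
    rw [(inferInstance : Q.LiesOver w.asIdeal).over, h, Ideal.under_bot]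
  haveI : Finite (𝓞 K ⧸ w.asIdeal) := Ideal.finiteQuotientOfFreeOfNeBot _ w.ne_bot
  haveI : Q.IsMaximal := Ideal.Quotient.maximal_of_isField Q
    (Finite.isField_of_domain (𝓞 L ⧸ Q))
  haveI : w.asIdeal.IsMaximal := w.isMaximal
  haveI : PerfectField Q.ResidueField := PerfectField.ofFinite
  haveI : PerfectField w.asIdeal.ResidueField := PerfectField.ofFinite
  have hcard : Nat.card (Ideal.inertia (N ≃ₐ[L] N) P) = Nat.card (Ideal.inertia (N ≃ₐ[K] N) P) := by
    rw [Ideal.card_inertia_eq_ramificationIdxIn Q, Ideal.card_inertia_eq_ramificationIdxIn w.asIdeal,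
      Ideal.ramificationIdxIn_eq_ramificationIdx Q P (N ≃ₐ[L] N),
      Ideal.ramificationIdxIn_eq_ramificationIdx w.asIdeal P (N ≃ₐ[K] N),
      Ideal.ramificationIdx_tower (R := 𝓞 K) (q := Q) (r := P), hL Q inferInstance inferInstance,
      one_mul]
  obtain ⟨h, hh⟩ := (hr'.bijective_of_nat_card_le hcard.ge).2 ⟨g, hg⟩
  have := congrArg (fun t : Ideal.inertia (N ≃ₐ[K] N) P => (t.1 : N ≃ₐ[K] N) (φ x)) hh
  simp only at this
  rw [← this]
  exact h.1.commutes x

end Groth.Agent.Lib.NF45
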