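import Mathlib.RingTheory.DedekindDomain.AdicValuation
import Mathlib.Topology.Algebra.Polynomial
import Mathlib.Topology.Algebra.InfiniteSum.Nonarchimedean

/-!
# Lifting simple roots to the adic completion
-/

set_option autoImplicit false

open IsDedekindDomain Polynomial Filter Topology WithZero

namespace Groth.Agent.Lib.NF45

universe u

variable {A : Type u} [CommRing A] [IsDedekindDomain A] {K : Type u} [Field K] [Algebra A K]
  [IsFractionRing A K] (v : HeightOneSpectrum A)

/-- Newton iteration. -/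
noncomputable def newton (f : A[X]) (c a₀ : A) : ℕ → A
  | 0 => a₀
  | n + 1 => newton f c a₀ n - c * f.eval (newton f c a₀ n)

theorem newton_spec (f : A[X]) (c a₀ : A) (h₀ : f.eval a₀ ∈ v.asIdeal)
    (hc : c * (derivative f).eval a₀ - 1 ∈ v.asIdeal) (n : ℕ) :
    f.eval (newton f c a₀ n) ∈ v.asIdeal ^ (n + 1) ∧ newton f c a₀ n - a₀ ∈ v.asIdeal := by
  induction n with
  | zero => simpa [newton] using h₀
  | succ n ih =>
    obtain ⟨h1, h2⟩ := ih
    have hy : c * f.eval (newton f c a₀ n) ∈ v.asIdeal ^ (n + 1) := Ideal.mul_mem_left _ _ h1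
    have hx : newton f c a₀ (n + 1) - a₀ ∈ v.asIdeal := by
      have := Ideal.pow_le_self (Nat.succ_ne_zero n) hy
      have h := v.asIdeal.sub_mem h2 this
      simpa [newton, sub_right_comm] using h
    refine ⟨?_, hx⟩
    obtain ⟨z, hz⟩ := f.binomExpansion (newton f c a₀ n) (-(c * f.eval (newton f c a₀ n)))
    have hd : (derivative f).eval (newton f c a₀ n) - (derivative f).eval a₀ ∈ v.asIdeal :=
      v.asIdeal.mem_of_dvd (sub_dvd_eval_sub _ _ _) h2
    have h3 : c * (derivative f).eval (newton f c a₀ n) - 1 ∈ v.asIdeal := by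
      have := v.asIdeal.add_mem (v.asIdeal.mul_mem_left c hd) hc
      convert this using 1
      ring
    have heq : f.eval (newton f c a₀ (n + 1)) =
        -(f.eval (newton f c a₀ n) * (c * (derivative f).eval (newton f c a₀ n) - 1)) +
          z * (c * f.eval (newton f c a₀ n)) ^ 2 := by
      rw [newton, sub_eq_add_neg, hz]
      ring
    rw [heq]
    refine Ideal.add_mem _ ?_ ?_
    · refine neg_mem ?_
      rw [pow_succ _ (n + 1)]
      exact Ideal.mul_mem_mul h1 h3
    · refine Ideal.mul_mem_left _ _ ?_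
      rw [pow_two, pow_succ _ (n + 1)]
      exact Ideal.mul_mem_mul hy (Ideal.pow_le_self (Nat.succ_ne_zero n) hy)

theorem tendsto_zero_of_valued_le (u : ℕ → v.adicCompletion K)
    (hu : ∀ n : ℕ, Valued.v (u n) ≤ exp (-(n : ℤ))) : Tendsto u atTop (𝓝 0) := by
  rw [tendsto_atTop']
  intro s hs
  obtain ⟨γ, hγ⟩ := Valued.mem_nhds_zero.1 hs
  set m : ℤᵐ⁰ := MonoidWithZeroHom.ValueGroup₀.embedding γ.val with hm
  have hm0 : m ≠ 0 := fun h => γ.ne_zero
    (MonoidWithZeroHom.ValueGroup₀.embedding_strictMono.injective (h.trans (map_zero _).symm))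
  refine ⟨(-(log m) + 1).toNat, fun n hn => hγ ?_⟩
  rw [Set.mem_ofPred_eq, Valuation.restrict_lt_iff_lt_embedding]
  refine lt_of_le_of_lt (hu n) ?_
  show exp (-(n : ℤ)) < m
  rw [← exp_log hm0, exp_lt_exp]
  omega

/-- A simple root modulo `v` lifts to a root in the completion. -/
theorem exists_root_adicCompletion (f : A[X]) (a₀ : A) (h₀ : f.eval a₀ ∈ v.asIdeal)
    (h₁ : (derivative f).eval a₀ ∉ v.asIdeal) :
    ∃ x : v.adicCompletion K, (f.map (algebraMap A K)).eval₂ (algebraMap K (v.adicCompletion K)) x = 0 := by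
  obtain ⟨c, i, hi, hci⟩ := v.isMaximal.exists_inv h₁
  have hc : c * (derivative f).eval a₀ - 1 ∈ v.asIdeal := by
    have : c * (derivative f).eval a₀ - 1 = -i := by rw [← hci]; ring
    rw [this]
    exact neg_mem hi
  let φ : A →+* v.adicCompletion K := (algebraMap K (v.adicCompletion K)).comp (algebraMap A K)
  have hφ : ∀ (r : A) (n : ℕ), r ∈ v.asIdeal ^ n → Valued.v (φ r) ≤ exp (-(n : ℤ)) := by
    intro r n hr
    have h := HeightOneSpectrum.valuedAdicCompletion_eq_valuation' (v := v) (algebraMap A K r)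
    change Valued.v (φ r) = _ at h
    rw [h, HeightOneSpectrum.valuation_of_algebraMap]
    exact (v.intValuation_le_pow_iff_mem r n).2 hr
  let s : ℕ → v.adicCompletion K := fun n => φ (newton f c a₀ n)
  have hs : CauchySeq s := by
    haveI : NonarchimedeanAddGroup (v.adicCompletion K) := {
      is_nonarchimedean := fun U hU => by
        obtain ⟨γ, hγ⟩ := Valued.mem_nhds_zero.1 hU
        let H : AddSubgroup (v.adicCompletion K) := (Valued.v.restrict).ltAddSubgroup γ
        have hH : (H : Set (v.adicCompletion K)) ∈ 𝓝 0 :=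
          Valued.mem_nhds_zero.2 ⟨γ, fun x hx => hx⟩
        exact ⟨⟨H, H.isOpen_of_mem_nhds hH⟩, fun x hx => hγ hx⟩ }
    refine NonarchimedeanAddGroup.cauchySeq_of_tendsto_sub_nhds_zero ?_
    refine tendsto_zero_of_valued_le v _ fun n => ?_
    have : s (n + 1) - s n = φ (newton f c a₀ (n + 1) - newton f c a₀ n) := (map_sub φ _ _).symm
    rw [this]
    refine hφ _ n ?_
    have h := (v.asIdeal ^ (n + 1)).mul_mem_left (-c) (newton_spec v f c a₀ h₀ hc n).1
    have e : newton f c a₀ (n + 1) - newton f c a₀ n = -c * f.eval (newton f c a₀ n) := by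
      rw [newton]; ring
    rw [e]
    exact Ideal.pow_le_pow_right (Nat.le_succ n) h
  obtain ⟨x, hx⟩ := cauchySeq_tendsto_of_complete hs
  refine ⟨x, ?_⟩
  have hlim : Tendsto (fun n => f.eval₂ φ (s n)) atTop (𝓝 (f.eval₂ φ x)) :=
    ((f.continuous_eval₂ φ).tendsto x).comp hx
  have hzero : Tendsto (fun n => f.eval₂ φ (s n)) atTop (𝓝 0) := by
    refine tendsto_zero_of_valued_le v _ fun n => ?_
    have : f.eval₂ φ (s n) = φ (f.eval (newton f c a₀ n)) := Polynomial.eval₂_at_apply φ _
    rw [this]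
    exact hφ _ n (Ideal.pow_le_pow_right (Nat.le_succ n) (newton_spec v f c a₀ h₀ hc n).1)
  rw [Polynomial.eval₂_map]
  exact tendsto_nhds_unique hlim hzero

end Groth.Agent.Lib.NF45
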